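import Mathlib
import Cfsg.Agent.Prune
set_option linter.all false
prune_inst 0x7f00000000000000000000000000000000000000000000000000000000000000000000000000000000000000000000000000000000000000000000000000000000000000000000000000000000000000003fffffffffffffffffffffffffffbeffbdffffffff
open scoped Cfsg.Agent.FastGrp

/-!
# Rank three actions: invariant kernels (helper91)

`G` acts on the finite sets `X`, `Y`, `P`; `Inv G A` : the matrix `A : Matrix X Y ℝ` is constant on the orbits of `G`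
on `X × Y`. `Rk3 G x₀` : `G` is transitive on `X` and the stabiliser of `x₀` has (at most) three orbits.

* `exists_relation` : four invariant kernels on `X × X` are linearly dependent;
* `Rd.eq_comb` : if `r ≠ 0` is a function with sum zero and `F₀` is an invariant kernel on `X × P` with column sums
  zero, `F₀ ≠ 0`, `F₀ᵀ r = 0`, then an invariant kernel `A` on `X × X` with `A r = 0` is `b J + c F₀ F₀ᵀ`;
* `Rd.factor` : then there is `γ ≠ 0` such that `γ F = F₀ (F₀ᵀ F)` for all invariant kernels `F` on `X × Y` with column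
  sums zero and `Fᵀ r = 0`;
* `Rd.dep` : if all invariant kernels on `Y × Y` are symmetric, two invariant kernels on `X × Y` with column sums zero
  and `Fᵀ r = 0` are linearly dependent;
* `card_eq` : Burnside: if `G` has at least three orbits on `X × P`, and rank at most three on `X` and `P`, then
  `|X| = |P|`.
-/

set_option autoImplicit false
set_option linter.unusedSectionVars false

namespace Cfsg.Agent.H91.RankThree

open Matrix

/-- invariant kernels -/
def Inv (G : Type*) {X Y : Type*} [Group G] [MulAction G X] [MulAction G Y] (A : Matrix X Y ℝ) : Prop :=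
  ∀ (g : G) x y, A (g • x) (g • y) = A x y

/-- the all-one matrix -/
def J (X Y : Type*) : Matrix X Y ℝ := fun _ _ => 1

section Basic

variable {G X Y Z : Type*} [Group G] [MulAction G X] [MulAction G Y] [MulAction G Z]

theorem Inv.add {A B : Matrix X Y ℝ} (hA : Inv G A) (hB : Inv G B) : Inv G (A + B) := fun g x y => by
  rw [Matrix.add_apply, Matrix.add_apply, hA, hB]

theorem Inv.sub {A B : Matrix X Y ℝ} (hA : Inv G A) (hB : Inv G B) : Inv G (A - B) := fun g x y => by
  rw [Matrix.sub_apply, Matrix.sub_apply, hA, hB]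

theorem Inv.smul {A : Matrix X Y ℝ} (c : ℝ) (hA : Inv G A) : Inv G (c • A) := fun g x y => by
  rw [Matrix.smul_apply, Matrix.smul_apply, hA]

theorem Inv.transpose {A : Matrix X Y ℝ} (hA : Inv G A) : Inv G Aᵀ := fun g x y => by
  rw [transpose_apply, transpose_apply, hA]

theorem inv_J : Inv G (J X Y) := fun _ _ _ => rfl

theorem inv_one [DecidableEq X] : Inv G (1 : Matrix X X ℝ) := fun g x y => by
  by_cases h : x = y
  · subst h; rw [one_apply_eq, one_apply_eq]
  · rw [one_apply_ne h, one_apply_ne (fun e => h (MulAction.injective g e))]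

theorem Inv.mul [Fintype Y] {A : Matrix X Y ℝ} {B : Matrix Y Z ℝ} (hA : Inv G A) (hB : Inv G B) : Inv G (A * B) := by
  intro g x z
  rw [mul_apply, mul_apply, ← Equiv.sum_comp (MulAction.toPerm g : Equiv.Perm Y)]
  refine Finset.sum_congr rfl fun y _ => ?_
  rw [MulAction.toPerm_apply, hA, hB]

theorem Inv.zero : Inv G (0 : Matrix X Y ℝ) := fun _ _ _ => rfl

end Basic

/-! ### the dimension of the algebra of invariant kernels -/

section Dim

variable {G X Y : Type*} [Group G] [MulAction G X] [MulAction G Y] [Fintype X]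

variable (G X Y) in
/-- the space of invariant kernels -/
def invSub : Submodule ℝ (Matrix X Y ℝ) where
  carrier := {A | Inv G A}
  add_mem' := fun ha hb => Inv.add ha hb
  zero_mem' := Inv.zero
  smul_mem' := fun c _ ha => Inv.smul c ha

/-- invariant kernels are determined by the values on a set of representatives -/
theorem finrank_invSub_le [Finite Y] [MulAction.IsPretransitive G X] (x₀ : X) :
    Module.finrank ℝ (invSub G X Y) ≤ Nat.card (MulAction.orbitRel.Quotient (MulAction.stabilizer G x₀) Y) := by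
  classical
  have : Fintype (MulAction.orbitRel.Quotient (MulAction.stabilizer G x₀) Y) := Fintype.ofFinite _
  let f : invSub G X Y →ₗ[ℝ] (MulAction.orbitRel.Quotient (MulAction.stabilizer G x₀) Y → ℝ) :=
    { toFun := fun A q => A.1 x₀ q.out
      map_add' := fun _ _ => rfl
      map_smul' := fun _ _ => rfl }
  have hf : Function.Injective f := by
    rw [injective_iff_map_eq_zero]
    intro A hA
    apply Subtype.ext
    ext x y
    obtain ⟨g, rfl⟩ := MulAction.exists_smul_eq G x₀ x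
    obtain ⟨y, rfl⟩ : ∃ y', y = g • y' := ⟨g⁻¹ • y, (smul_inv_smul g y).symm⟩
    have hinv : Inv G A.1 := A.2
    rw [hinv]
    have h1 : (Quotient.mk'' y : MulAction.orbitRel.Quotient (MulAction.stabilizer G x₀) Y).out ∈
        MulAction.orbit (MulAction.stabilizer G x₀) y := by
      rw [← MulAction.orbitRel_apply]
      exact Quotient.exact' (Quotient.out_eq' _)
    obtain ⟨⟨k, hk⟩, h2⟩ := h1
    have h3 := congrFun hA (Quotient.mk'' y)
    change A.1 x₀ _ = 0 at h3
    rw [← h2] at h3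
    change A.1 x₀ (k • y) = 0 at h3
    rw [← hinv k x₀ y, MulAction.mem_stabilizer_iff.1 hk]
    exact h3
  have h1 := LinearMap.finrank_le_finrank_of_injective hf
  rwa [Module.finrank_fintype_fun_eq_card, ← Nat.card_eq_fintype_card] at h1

/-- four invariant kernels on `X × X` are linearly dependent -/
theorem exists_relation [MulAction.IsPretransitive G X] (x₀ : X)
    (h3 : Nat.card (MulAction.orbitRel.Quotient (MulAction.stabilizer G x₀) X) ≤ 3) {A B C D : Matrix X X ℝ}
    (hA : Inv G A) (hB : Inv G B) (hC : Inv G C) (hD : Inv G D) :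
    ∃ s a b c : ℝ, s • A + a • B + b • C + c • D = 0 ∧ (s ≠ 0 ∨ a ≠ 0 ∨ b ≠ 0 ∨ c ≠ 0) := by
  let v : Fin 4 → invSub G X X := ![⟨A, hA⟩, ⟨B, hB⟩, ⟨C, hC⟩, ⟨D, hD⟩]
  have h1 : ¬ LinearIndependent ℝ v := by
    intro h
    have := h.fintype_card_le_finrank
    have := finrank_invSub_le (G := G) (Y := X) x₀
    rw [Fintype.card_fin] at *
    omega
  obtain ⟨g, hg, i, hi⟩ := Fintype.not_linearIndependent_iff.1 h1
  refine ⟨g 0, g 1, g 2, g 3, ?_, ?_⟩
  · have h2 := congrArg Subtype.val hg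
    simp only [Fin.sum_univ_four] at h2
    exact h2
  · by_contra hcon
    push Not at hcon
    obtain ⟨h0, h1, h2, h3⟩ := hcon
    fin_cases i
    · exact hi h0
    · exact hi h1
    · exact hi h2
    · exact hi h3

end Dim

/-! ### real symmetric matrices -/

theorem eq_zero_of_mul_transpose {X Y : Type*} [Fintype X] [Fintype Y] {A : Matrix X Y ℝ} (h : A * Aᵀ = 0) : A = 0 := by
  ext x y
  have h1 := congrFun (congrFun h x) x
  rw [mul_apply, Matrix.zero_apply] at h1
  have h2 := (Finset.sum_eq_zero_iff_of_nonneg (fun y _ => mul_self_nonneg (A x y))).1 h1 y (Finset.mem_univ y)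
  exact mul_self_eq_zero.1 h2

theorem eq_zero_of_sq {X : Type*} [Fintype X] {A : Matrix X X ℝ} (hs : Aᵀ = A) (h : A * A = 0) : A = 0 := by
  apply eq_zero_of_mul_transpose
  rwa [hs]

/-- column sums zero -/
def Zc {X Y : Type*} [Fintype X] (F : Matrix X Y ℝ) : Prop := ∀ y, ∑ x, F x y = 0

section

variable {X Y Z : Type*} [Fintype X] [Fintype Y] [Fintype Z]

theorem Zc.sub {F F' : Matrix X Y ℝ} (h : Zc F) (h' : Zc F') : Zc (F - F') := fun y => by
  simp only [Matrix.sub_apply, Finset.sum_sub_distrib, h y, h' y, sub_zero]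

theorem Zc.smul {F : Matrix X Y ℝ} (c : ℝ) (h : Zc F) : Zc (c • F) := fun y => by
  simp only [Matrix.smul_apply, smul_eq_mul, ← Finset.mul_sum, h y, mul_zero]

theorem Zc.mul {F : Matrix X Y ℝ} (h : Zc F) (A : Matrix Y Z ℝ) : Zc (F * A) := by
  intro z
  simp only [mul_apply]
  rw [Finset.sum_comm]
  refine Finset.sum_eq_zero fun y _ => ?_
  rw [← Finset.sum_mul, h y, zero_mul]

theorem Zc.J_mul {F : Matrix X Y ℝ} (h : Zc F) : J Z X * F = 0 := by
  ext z y
  rw [mul_apply, Matrix.zero_apply]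
  simp only [J, one_mul]
  exact h y

end

/-! ### the main arguments -/

section Main

variable {G X Y P : Type*} [Group G] [MulAction G X] [MulAction G Y] [MulAction G P] [Fintype X] [Fintype Y] [Fintype P]

variable (G) in
/-- the data: rank three and the function `r` -/
structure Rd (x₀ : X) (r : X → ℝ) : Prop where
  trans : MulAction.IsPretransitive G X
  rank : Nat.card (MulAction.orbitRel.Quotient (MulAction.stabilizer G x₀) X) ≤ 3
  ne : r ≠ 0
  sum : ∑ x, r x = 0

variable {x₀ : X} {r : X → ℝ}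

theorem Rd.J_mulVec (h : Rd G x₀ r) (Z : Type*) : J Z X *ᵥ r = 0 := by
  funext z
  simp only [mulVec, dotProduct, J, one_mul, Pi.zero_apply]
  exact h.sum

theorem mul_transpose_mulVec {Z : Type*} {F : Matrix X Y ℝ} {A : Matrix Z Y ℝ} (hr : Fᵀ *ᵥ r = 0) :
    (A * Fᵀ) *ᵥ r = 0 := by
  rw [← mulVec_mulVec, hr, mulVec_zero]

/-- an invariant kernel killing `r` is a combination of `J` and `F₀ F₀ᵀ` -/
theorem Rd.eq_comb (h : Rd G x₀ r) {F₀ : Matrix X P ℝ} (hF₀ : Inv G F₀) (h0 : Zc F₀) (hne : F₀ ≠ 0)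
    (hr : F₀ᵀ *ᵥ r = 0) {A : Matrix X X ℝ} (hA : Inv G A) (hAr : A *ᵥ r = 0) :
    ∃ b c : ℝ, A = b • J X X + c • (F₀ * F₀ᵀ) := by
  classical
  have := h.trans
  have hA0 : F₀ * F₀ᵀ ≠ 0 := fun e => hne (eq_zero_of_mul_transpose e)
  obtain ⟨s, a, b, c, hrel, hnz⟩ := exists_relation (G := G) x₀ h.rank hA (inv_one (G := G)) (inv_J (G := G))
    (hF₀.mul hF₀.transpose)
  have h1 : a = 0 := by
    have h2 : (s • A + a • (1 : Matrix X X ℝ) + b • J X X + c • (F₀ * F₀ᵀ)) *ᵥ r = 0 := by
      rw [hrel, zero_mulVec]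
    simp only [add_mulVec, smul_mulVec, hAr, one_mulVec, h.J_mulVec, mul_transpose_mulVec hr, smul_zero, zero_add,
      add_zero] at h2
    rcases smul_eq_zero.1 h2 with h3 | h3
    · exact h3
    · exact absurd h3 h.ne
  subst h1
  rw [zero_smul, add_zero] at hrel
  have hs : s ≠ 0 := by
    rintro rfl
    rw [zero_smul, zero_add] at hrel
    have h2 : J X X * (b • J X X + c • (F₀ * F₀ᵀ)) = 0 := by rw [hrel, Matrix.mul_zero]
    rw [Matrix.mul_add, Matrix.mul_smul, Matrix.mul_smul, ← Matrix.mul_assoc, h0.J_mul, Matrix.zero_mul, smul_zero, add_zero] at h2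
    have hb : b = 0 := by
      rcases smul_eq_zero.1 h2 with h3 | h3
      · exact h3
      · exfalso
        have h4 := congrFun (congrFun h3 x₀) x₀
        simp only [mul_apply, J, mul_one, Finset.sum_const, Finset.card_univ, nsmul_eq_mul, Matrix.zero_apply] at h4
        have hne : Nonempty X := ⟨x₀⟩
        exact Fintype.card_ne_zero (α := X) (by exact_mod_cast h4)
    subst hb
    rw [zero_smul, zero_add] at hrel
    have hc : c = 0 := (smul_eq_zero.1 hrel).resolve_right hA0
    subst hc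
    simp at hnz
  refine ⟨-(s⁻¹ * b), -(s⁻¹ * c), ?_⟩
  have h2 : s⁻¹ • (s • A + b • J X X + c • (F₀ * F₀ᵀ)) = 0 := by rw [hrel, smul_zero]
  rw [smul_add, smul_add, smul_smul, smul_smul, smul_smul, inv_mul_cancel₀ hs, one_smul, add_assoc] at h2
  rw [eq_neg_of_add_eq_zero_left h2, neg_add, neg_smul, neg_smul]

/-- the same with column sums zero -/
theorem Rd.eq_smul (h : Rd G x₀ r) {F₀ : Matrix X P ℝ} (hF₀ : Inv G F₀) (h0 : Zc F₀) (hne : F₀ ≠ 0)
    (hr : F₀ᵀ *ᵥ r = 0) {A : Matrix X X ℝ} (hA : Inv G A) (hAr : A *ᵥ r = 0) (hAJ : J X X * A = 0) :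
    ∃ c : ℝ, A = c • (F₀ * F₀ᵀ) := by
  obtain ⟨b, c, e⟩ := h.eq_comb hF₀ h0 hne hr hA hAr
  refine ⟨c, ?_⟩
  rw [e, Matrix.mul_add, Matrix.mul_smul, Matrix.mul_smul, ← Matrix.mul_assoc, h0.J_mul, Matrix.zero_mul, smul_zero, add_zero] at hAJ
  have hb : b = 0 := by
    rcases smul_eq_zero.1 hAJ with h3 | h3
    · exact h3
    · exfalso
      have h4 := congrFun (congrFun h3 x₀) x₀
      simp only [mul_apply, J, mul_one, Finset.sum_const, Finset.card_univ, nsmul_eq_mul, Matrix.zero_apply] at h4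
      have hne : Nonempty X := ⟨x₀⟩
      exact Fintype.card_ne_zero (α := X) (by exact_mod_cast h4)
  rw [e, hb, zero_smul, zero_add]

/-- **Factorization of invariant kernels.** -/
theorem Rd.factor (h : Rd G x₀ r) {F₀ : Matrix X P ℝ} (hF₀ : Inv G F₀) (h0 : Zc F₀) (hne : F₀ ≠ 0)
    (hr : F₀ᵀ *ᵥ r = 0) : ∃ γ : ℝ, γ ≠ 0 ∧ ∀ {Y : Type*} [Fintype Y] [MulAction G Y] {F : Matrix X Y ℝ}, Inv G F → Zc F →
      Fᵀ *ᵥ r = 0 → γ • F = F₀ * (F₀ᵀ * F) := by
  have hA0 : F₀ * F₀ᵀ ≠ 0 := fun e => hne (eq_zero_of_mul_transpose e)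
  have hA0i : Inv G (F₀ * F₀ᵀ) := hF₀.mul hF₀.transpose
  obtain ⟨γ, hγ⟩ := h.eq_smul hF₀ h0 hne hr (hA0i.mul hA0i)
    (by rw [← mulVec_mulVec, mul_transpose_mulVec hr, mulVec_zero])
    (by rw [← Matrix.mul_assoc, ← Matrix.mul_assoc (J X X) F₀ F₀ᵀ, h0.J_mul, Matrix.zero_mul, Matrix.zero_mul])
  refine ⟨γ, ?_, ?_⟩
  · rintro rfl
    rw [zero_smul] at hγ
    exact hA0 (eq_zero_of_sq (by rw [transpose_mul, transpose_transpose]) hγ)
  · intro Y _ _ F hF hFz hFr
    set F₁ : Matrix X Y ℝ := F₀ * (F₀ᵀ * F) - γ • F with hF₁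
    have hF₁i : Inv G F₁ := (hF₀.mul (hF₀.transpose.mul hF)).sub (hF.smul γ)
    have hF₁z : Zc F₁ := (h0.mul _).sub (hFz.smul γ)
    have hF₁r : F₁ᵀ *ᵥ r = 0 := by
      rw [hF₁, transpose_sub, transpose_smul, sub_mulVec, smul_mulVec, hFr, smul_zero, sub_zero, transpose_mul,
        mul_transpose_mulVec (F := F₀) hr]
    have hA0F₁ : (F₀ * F₀ᵀ) * F₁ = 0 := by
      rw [hF₁, Matrix.mul_sub, Matrix.mul_smul, ← Matrix.mul_assoc F₀ F₀ᵀ F, ← Matrix.mul_assoc (F₀ * F₀ᵀ) (F₀ * F₀ᵀ) F, hγ, Matrix.smul_mul, sub_self]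
    obtain ⟨c, hc⟩ := h.eq_smul hF₀ h0 hne hr (hF₁i.mul hF₁i.transpose) (mul_transpose_mulVec hF₁r)
      (by rw [← Matrix.mul_assoc, hF₁z.J_mul, Matrix.zero_mul])
    have h2 : (F₁ * F₁ᵀ) * (F₁ * F₁ᵀ) = 0 := by
      nth_rewrite 1 [hc]
      rw [Matrix.smul_mul, ← Matrix.mul_assoc, hA0F₁, Matrix.zero_mul, smul_zero]
    have h3 := eq_zero_of_mul_transpose (eq_zero_of_sq (by rw [transpose_mul, transpose_transpose]) h2)
    rw [hF₁, sub_eq_zero] at h3
    exact h3.symm

/-- **Two kernels are dependent if all invariant kernels on `Y × Y` are symmetric.** -/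
theorem Rd.dep (h : Rd G x₀ r) (hsym : ∀ A : Matrix Y Y ℝ, Inv G A → Aᵀ = A) {F₁ F₂ : Matrix X Y ℝ} (h1 : Inv G F₁)
    (h2 : Inv G F₂) (z1 : Zc F₁) (z2 : Zc F₂) (r1 : F₁ᵀ *ᵥ r = 0) (r2 : F₂ᵀ *ᵥ r = 0) (hne : F₁ ≠ 0) :
    ∃ c : ℝ, F₂ = c • F₁ := by
  obtain ⟨c, hc⟩ := h.eq_smul h1 z1 hne r1 (h1.mul h2.transpose) (mul_transpose_mulVec r2)
    (by rw [← Matrix.mul_assoc, z1.J_mul, Matrix.zero_mul])
  refine ⟨c, ?_⟩
  set F₃ : Matrix X Y ℝ := F₂ - c • F₁ with hF₃
  have h3 : Inv G F₃ := h2.sub (h1.smul c)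
  have z3 : Zc F₃ := z2.sub (z1.smul c)
  have r3 : F₃ᵀ *ᵥ r = 0 := by
    rw [hF₃, transpose_sub, transpose_smul, sub_mulVec, smul_mulVec, r1, r2, smul_zero, sub_zero]
  have e13 : F₁ * F₃ᵀ = 0 := by
    rw [hF₃, transpose_sub, transpose_smul, Matrix.mul_sub, Matrix.mul_smul, hc, sub_self]
  obtain ⟨d, hd⟩ := h.eq_smul h1 z1 hne r1 (h3.mul h3.transpose) (mul_transpose_mulVec r3)
    (by rw [← Matrix.mul_assoc, z3.J_mul, Matrix.zero_mul])
  have hs := hsym (F₁ᵀ * F₃) (h1.transpose.mul h3)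
  rw [transpose_mul, transpose_transpose] at hs
  -- `F₃ᵀ F₁ = F₁ᵀ F₃`
  have e1 : F₁ * F₁ᵀ * F₃ = 0 := by
    rw [Matrix.mul_assoc, ← hs, ← Matrix.mul_assoc, e13, Matrix.zero_mul]
  have e2 : (F₃ * F₃ᵀ) * (F₃ * F₃ᵀ) = 0 := by
    nth_rewrite 1 [hd]
    rw [Matrix.smul_mul, ← Matrix.mul_assoc, e1, Matrix.zero_mul, smul_zero]
  have e3 := eq_zero_of_mul_transpose (eq_zero_of_sq (by rw [transpose_mul, transpose_transpose]) e2)
  rwa [hF₃, sub_eq_zero] at e3

end Main

/-! ### Burnside -/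

section Burnside

variable {G X P : Type*} [Group G] [Fintype G] [MulAction G X] [MulAction G P] [Fintype X] [Fintype P]

open Classical in
/-- number of fixed points -/
noncomputable def fix (X : Type*) [MulAction G X] [Fintype X] (g : G) : ℕ := Nat.card (MulAction.fixedBy X g)

open Classical in
theorem fix_eq_sum (g : G) : (fix X g : ℤ) = ∑ x : X, if g • x = x then 1 else 0 := by
  unfold fix
  rw [Finset.sum_ite, Finset.sum_const, Finset.sum_const_zero, add_zero, nsmul_eq_mul, mul_one]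
  norm_cast
  rw [Nat.card_eq_fintype_card, ← Fintype.card_subtype]
  rfl

/-- the number of orbits of a point stabiliser does not depend on the point -/
theorem card_orbits_eq [MulAction.IsPretransitive G X] (x y : X) :
    Nat.card (MulAction.orbitRel.Quotient (MulAction.stabilizer G x) P) =
      Nat.card (MulAction.orbitRel.Quotient (MulAction.stabilizer G y) P) := by
  obtain ⟨g, rfl⟩ := MulAction.exists_smul_eq G x y
  refine Nat.card_congr (Quotient.congr (MulAction.toPerm g) ?_)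
  intro a b
  change a ∈ MulAction.orbit _ b ↔ g • a ∈ MulAction.orbit _ (g • b)
  constructor
  · rintro ⟨⟨k, hk⟩, rfl⟩
    refine ⟨⟨g * k * g⁻¹, ?_⟩, ?_⟩
    · rw [MulAction.mem_stabilizer_iff, mul_smul, mul_smul, inv_smul_smul, MulAction.mem_stabilizer_iff.1 hk]
    · change (g * k * g⁻¹) • g • b = g • k • b
      rw [mul_smul, mul_smul, inv_smul_smul]
  · rintro ⟨⟨k, hk⟩, e⟩
    change k • g • b = g • a at e
    refine ⟨⟨g⁻¹ * k * g, ?_⟩, ?_⟩
    · rw [MulAction.mem_stabilizer_iff, mul_smul, mul_smul, MulAction.mem_stabilizer_iff.1 hk, inv_smul_smul]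
    · change (g⁻¹ * k * g) • b = a
      rw [mul_smul, mul_smul, e, inv_smul_smul]

/-- `∑_g fix_X(g) fix_P(g) = |G| (number of orbits of G_x on P)` -/
theorem sum_fix_mul_fix [MulAction.IsPretransitive G X] (x₀ : X) :
    ∑ g : G, (fix X g : ℤ) * fix P g =
      Fintype.card G * Nat.card (MulAction.orbitRel.Quotient (MulAction.stabilizer G x₀) P) := by
  classical
  have h1 : ∑ g : G, (fix X g : ℤ) * fix P g = ∑ x : X, ∑ g : G, (if g • x = x then (fix P g : ℤ) else 0) := by
    rw [Finset.sum_comm]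
    refine Finset.sum_congr rfl fun g _ => ?_
    rw [fix_eq_sum (X := X), Finset.sum_mul]
    exact Finset.sum_congr rfl fun x _ => by split_ifs <;> simp
  have h2 : ∀ x : X, ∑ g : G, (if g • x = x then (fix P g : ℤ) else 0) =
      Nat.card (MulAction.orbitRel.Quotient (MulAction.stabilizer G x₀) P) * Nat.card (MulAction.stabilizer G x) := by
    intro x
    have : Fintype (MulAction.orbitRel.Quotient (MulAction.stabilizer G x) P) := Fintype.ofFinite _
    have h3 := MulAction.sum_card_fixedBy_eq_card_orbits_mul_card_group (MulAction.stabilizer G x) P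
    rw [card_orbits_eq (P := P) x₀ x, Nat.card_eq_fintype_card, Nat.card_eq_fintype_card (α := MulAction.stabilizer G x)]
    rw [← Nat.cast_mul, ← h3, Nat.cast_sum, ← Finset.sum_filter]
    have h4 : ∑ g ∈ Finset.univ.filter (fun g : G => g • x = x), (fix P g : ℤ) =
        ∑ k : MulAction.stabilizer G x, (fix P (k : G) : ℤ) := by
      rw [Finset.sum_subtype (p := fun g => g ∈ MulAction.stabilizer G x)]
      intro g
      simp [MulAction.mem_stabilizer_iff]
    rw [h4]
    refine Finset.sum_congr rfl fun k _ => ?_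
    unfold fix
    rw [Nat.card_eq_fintype_card]
    rfl
  rw [h1, Finset.sum_congr rfl fun x _ => h2 x, ← Finset.mul_sum]
  have h6 : ∀ x : X, Fintype.card X * Nat.card (MulAction.stabilizer G x) = Fintype.card G := by
    intro x
    have := (MulAction.stabilizer G x).index_mul_card
    rw [MulAction.index_stabilizer_of_transitive, Nat.card_eq_fintype_card (α := X),
      Nat.card_eq_fintype_card (α := G)] at this
    exact this
  have hX : Fintype.card X ≠ 0 := by
    have hne : Nonempty X := ⟨x₀⟩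
    exact Fintype.card_ne_zero (α := X)
  have h5 : ∀ x ∈ (Finset.univ : Finset X), (Nat.card (MulAction.stabilizer G x) : ℤ) =
      Nat.card (MulAction.stabilizer G x₀) := by
    intro x _
    have := (h6 x).trans (h6 x₀).symm
    exact_mod_cast Nat.eq_of_mul_eq_mul_left (Nat.pos_of_ne_zero hX) this
  rw [Finset.sum_congr rfl h5, Finset.sum_const, Finset.card_univ, nsmul_eq_mul, ← h6 x₀]
  push_cast
  ring

/-- **`|X| = |P|`** -/
theorem card_eq [MulAction.IsPretransitive G X] [MulAction.IsPretransitive G P] (x₀ : X) (p₀ : P)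
    (hX : Nat.card (MulAction.orbitRel.Quotient (MulAction.stabilizer G x₀) X) ≤ 3)
    (hP : Nat.card (MulAction.orbitRel.Quotient (MulAction.stabilizer G p₀) P) ≤ 3)
    (hXP : 3 ≤ Nat.card (MulAction.orbitRel.Quotient (MulAction.stabilizer G x₀) P)) :
    Fintype.card X = Fintype.card P := by
  have h1 : ∑ g : G, ((fix X g : ℤ) - fix P g) ^ 2 ≤ 0 := by
    have e : ∑ g : G, ((fix X g : ℤ) - fix P g) ^ 2 = ∑ g : G, (fix X g : ℤ) * fix X g -
        2 * ∑ g : G, (fix X g : ℤ) * fix P g + ∑ g : G, (fix P g : ℤ) * fix P g := by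
      rw [Finset.mul_sum, ← Finset.sum_sub_distrib, ← Finset.sum_add_distrib]
      exact Finset.sum_congr rfl fun g _ => by ring
    rw [e, sum_fix_mul_fix x₀, sum_fix_mul_fix x₀, sum_fix_mul_fix p₀]
    have h2 : (0 : ℤ) ≤ Fintype.card G := by positivity
    have h3 : (Nat.card (MulAction.orbitRel.Quotient (MulAction.stabilizer G x₀) X) : ℤ) ≤ 3 := by exact_mod_cast hX
    have h4 : (Nat.card (MulAction.orbitRel.Quotient (MulAction.stabilizer G p₀) P) : ℤ) ≤ 3 := by exact_mod_cast hP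
    have h5 : (3 : ℤ) ≤ Nat.card (MulAction.orbitRel.Quotient (MulAction.stabilizer G x₀) P) := by exact_mod_cast hXP
    nlinarith
  have h2 : ∑ g : G, ((fix X g : ℤ) - fix P g) ^ 2 = 0 :=
    le_antisymm h1 (Finset.sum_nonneg fun g _ => sq_nonneg _)
  have h3 := (Finset.sum_eq_zero_iff_of_nonneg (fun g _ => sq_nonneg ((fix X g : ℤ) - fix P g))).1 h2 1
    (Finset.mem_univ _)
  have h4 : (fix X (1 : G) : ℤ) = fix P (1 : G) := by
    have := pow_eq_zero_iff (two_ne_zero) |>.1 h3
    linarith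
  have h6 : fix X (1 : G) = Fintype.card X := by
    unfold fix
    rw [show MulAction.fixedBy X (1 : G) = Set.univ by ext z; simp, Nat.card_univ, Nat.card_eq_fintype_card]
  have h7 : fix P (1 : G) = Fintype.card P := by
    unfold fix
    rw [show MulAction.fixedBy P (1 : G) = Set.univ by ext z; simp, Nat.card_univ, Nat.card_eq_fintype_card]
  rw [h6, h7] at h4
  exact_mod_cast h4

end Burnside

end Cfsg.Agent.H91.RankThree

private theorem dce_ca2bc912c1e2 : _root_.True := by
  try have : _root_.True := by simp only [_root_.Cfsg.Agent.H91.RankThree.J.eq_1]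
  exact _root_.True.intro
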