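import Cfsg.Agent.ChevalleyStructure.UnipProd
import Cfsg.Agent.ChevalleyStructure.TorusRange
import Cfsg.Agent.ChevalleyStructure.NPerm
import Cfsg.Agent.ChevalleyStructure.BruhatSplit
import Cfsg.Agent.ChevStructure.FieldMap
import Cfsg.Agent.S1035
import Cfsg.Agent.S1100
set_option linter.all false

/-!
# Field automorphisms of the Chevalley groups: fixed points

`psi D σ` is the entrywise automorphism of `GL`. If the torus homomorphism over `F` is injective, every
`psi`-fixed element of `D.group F` lies in the subgroup generated by the root elements over the fixed field.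
-/

set_option autoImplicit false

namespace Cfsg.Agent.H91.FieldFix

open Cfsg.Lie Cfsg.Agent.ChevalleyStructure Cfsg.Agent.ChevalleyStructure.Elts
  Cfsg.Agent.ChevalleyStructure.UnipProd Cfsg.Agent.ChevalleyStructure.TorusCount
  Cfsg.Agent.ChevalleyStructure.BruhatSplit Cfsg.Agent.ChevalleyStructure.RootCombGood
  Cfsg.Agent.ChevalleyStructure.RootWord

open scoped Pointwise

universe u

variable {D : ChevalleyDatum} {F : Type u} [Field F]

/-- The entrywise automorphism of `GL` given by a field automorphism. -/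
noncomputable def psi (D : ChevalleyDatum) (σ : F ≃+* F) : GL D.Idx F ≃* GL D.Idx F :=
  Cfsg.Agent.ChevStructure.FieldMap.glEquiv D σ

theorem coe_psi (σ : F ≃+* F) (g : GL D.Idx F) :
    ((psi D σ g : GL D.Idx F) : Matrix D.Idx D.Idx F) = (g : Matrix D.Idx D.Idx F).map σ := rfl

theorem psi_xG (hD : InList D) (σ : F ≃+* F) (r : ℕ) (t : F) : psi D σ (xG hD r t) = xG hD r (σ t) :=
  Units.ext (Cfsg.Agent.ChevStructure.FieldMap.x_map D (σ : F →+* F) r t)

theorem psi_nG (hD : InList D) (σ : F ≃+* F) (r : ℕ) (t : F) : psi D σ (nG hD r t) = nG hD r (σ t) := by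
  rw [nG_def, nG_def, map_mul, map_mul, psi_xG, psi_xG, map_neg, map_inv₀]

theorem psi_hG (hD : InList D) (σ : F ≃+* F) (r : ℕ) (t : F) : psi D σ (hG hD r t) = hG hD r (σ t) := by
  rw [hG_def, hG_def, map_mul, psi_nG, psi_nG, map_neg, map_one]

theorem psi_group (hD : InList D) (σ : F ≃+* F) {g : GL D.Idx F} (hg : g ∈ D.group F) : psi D σ g ∈ D.group F := by
  have : D.group F ≤ (D.group F).comap (psi D σ).toMonoidHom := by
    refine (group_le_iff hD _).2 fun r _ t => ?_
    show psi D σ (xG hD r t) ∈ D.group F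
    rw [psi_xG]
    exact xG_mem_group hD r _
  exact this hg

theorem psi_unipGE (hD : InList D) (σ : F ≃+* F) (k : ℕ) {g : GL D.Idx F} (hg : g ∈ unipGE D F k) :
    psi D σ g ∈ unipGE D F k := by
  have : unipGE D F k ≤ (unipGE D F k).comap (psi D σ).toMonoidHom := by
    refine (unipGE_le_iff hD k _).2 fun r hr hk t => ?_
    show psi D σ (xG hD r t) ∈ unipGE D F k
    rw [psi_xG]
    exact xG_mem_unipGE hD hr hk _
  exact this hg

theorem psi_pos (hD : InList D) (σ : F ≃+* F) {g : GL D.Idx F} (hg : g ∈ D.posUnipotent F) :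
    psi D σ g ∈ D.posUnipotent F := by
  rw [← unipGE_eq_posUnipotent hD F (Nat.zero_le _)] at hg ⊢
  exact psi_unipGE hD σ 0 hg

theorem psi_diag (hD : InList D) (σ : F ≃+* F) {g : GL D.Idx F} (hg : g ∈ D.diagonalSubgroup F) :
    psi D σ g ∈ D.diagonalSubgroup F := by
  have : D.diagonalSubgroup F ≤ (D.diagonalSubgroup F).comap (psi D σ).toMonoidHom := by
    refine (diagonal_le_iff hD _).2 fun r hr t ht => ?_
    show psi D σ (hG hD r t) ∈ D.diagonalSubgroup F
    rw [psi_hG]
    exact hG_mem_diagonal hD hr ((map_ne_zero σ).2 ht)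
  exact this hg

theorem psi_borel (hD : InList D) (σ : F ≃+* F) {g : GL D.Idx F} (hg : g ∈ D.borelSubgroup F) :
    psi D σ g ∈ D.borelSubgroup F := by
  have : D.borelSubgroup F ≤ (D.borelSubgroup F).comap (psi D σ).toMonoidHom := by
    refine sup_le (fun u hu => ?_) (fun h hh => ?_)
    · exact (le_sup_left : D.posUnipotent F ≤ D.borelSubgroup F) (psi_pos hD σ hu)
    · exact (le_sup_right : D.diagonalSubgroup F ≤ D.borelSubgroup F) (psi_diag hD σ hh)
  exact this hg

/-- `x_k(a) ∈ ⟨x_r(t) : r > k⟩` only for `a = 0`. -/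
theorem eq_zero_of_xG_mem (hD : InList D) {k : ℕ} (hk : D.IsPosRoot k) {a : F}
    (h : xG hD k a ∈ unipGE D F (k + 1)) : a = 0 := by
  have hk' := (UnipOrd.isPosRoot_iff hD k).1 hk
  obtain ⟨t, -, e⟩ := exists_prod hD (by omega) h
  have hneg : D.neg k < D.nroots := by
    have := UnipOrd.neg_add hD hk.1
    omega
  refine UnipOrd.eq_zero_of_coroot hD hk.1 fun i hi => ?_
  have h1 := x_mul_wordMat_entry hD hk (0 : F) ((rootsGE D (k + 1)).map fun r => (r, t r)) (by
    intro p hp
    obtain ⟨r, hr, rfl⟩ := List.mem_map.1 hp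
    have hr := List.Ico.mem.1 hr
    refine ⟨(UnipOrd.isPosRoot_iff hD r).2 ⟨by omega, hr.2⟩, by show k < r; omega⟩) ⟨i, hi⟩ hneg
  have h2 := x_mul_wordMat_entry hD hk a [] (by simp) ⟨i, hi⟩ hneg
  have e' : D.x F k (0 : F) * D.wordMat F ((rootsGE D (k + 1)).map fun r => (r, t r)) =
      D.x F k a * D.wordMat F [] := by
    rw [x_zero hD, one_mul, wordMat_nil, mul_one, ← coe_wordG hD, ← e, coe_xG]
  rw [e', h2, mul_zero] at h1
  exact h1

/-- The subgroup generated by the root elements with parameters in a subfield. -/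
def subG (hD : InList D) (K : Subfield F) : Subgroup (GL D.Idx F) :=
  Subgroup.closure {g | ∃ r < D.nroots, ∃ t ∈ K, g = xG hD r t}

theorem xG_mem_subG (hD : InList D) {K : Subfield F} (r : ℕ) {t : F} (ht : t ∈ K) : xG hD r t ∈ subG hD K := by
  by_cases hr : r < D.nroots
  · exact Subgroup.subset_closure ⟨r, hr, t, ht, rfl⟩
  · rw [xG_of_not_lt hD hr]
    exact Subgroup.one_mem _

theorem nG_mem_subG (hD : InList D) {K : Subfield F} (r : ℕ) {t : F} (ht : t ∈ K) : nG hD r t ∈ subG hD K := by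
  rw [nG_def]
  exact Subgroup.mul_mem _ (xG_mem_subG hD r ht) (Subgroup.mul_mem _
    (xG_mem_subG hD _ (K.neg_mem (K.inv_mem ht))) (xG_mem_subG hD r ht))

theorem hG_mem_subG (hD : InList D) {K : Subfield F} (r : ℕ) {t : F} (ht : t ∈ K) : hG hD r t ∈ subG hD K := by
  rw [hG_def]
  exact Subgroup.mul_mem _ (nG_mem_subG hD r ht) (nG_mem_subG hD r (K.neg_mem K.one_mem))

theorem subG_le_group (hD : InList D) (K : Subfield F) : subG hD K ≤ D.group F := by
  refine (Subgroup.closure_le _).2 ?_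
  rintro g ⟨r, -, t, -, rfl⟩
  exact xG_mem_group hD r t

/-- The fixed field of `σ`. -/
def fix (σ : F ≃+* F) : Subfield F := RingHom.eqLocusField (σ : F →+* F) (RingHom.id F)

theorem mem_fix {σ : F ≃+* F} {t : F} : t ∈ fix σ ↔ σ t = t := Iff.rfl

theorem psi_subG (hD : InList D) (σ : F ≃+* F) {g : GL D.Idx F} (hg : g ∈ subG hD (fix σ)) : psi D σ g = g := by
  have : subG hD (fix σ) ≤ MonoidHom.eqLocus (psi D σ).toMonoidHom (MonoidHom.id _) := by
    refine (Subgroup.closure_le _).2 ?_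
    rintro g ⟨r, -, t, ht, rfl⟩
    show psi D σ (xG hD r t) = xG hD r t
    rw [psi_xG, mem_fix.1 ht]
  exact this hg

/-- Fixed elements of the positive unipotent subgroup. -/
theorem mem_subG_of_unipGE (hD : InList D) (σ : F ≃+* F) {k : ℕ} (hk : D.nroots / 2 ≤ k) {g : GL D.Idx F}
    (hg : g ∈ unipGE D F k) (hfix : psi D σ g = g) : g ∈ subG hD (fix σ) := by
  obtain ⟨m, hm⟩ : ∃ m, m = D.nroots - k := ⟨_, rfl⟩
  induction m generalizing k g with
  | zero =>
    rw [unipGE_eq_bot hD F (by omega), Subgroup.mem_bot] at hg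
    rw [hg]
    exact Subgroup.one_mem _
  | succ m ih =>
    have hkp : D.IsPosRoot k := (UnipOrd.isPosRoot_iff hD k).2 ⟨hk, by omega⟩
    obtain ⟨t, v, hv, rfl⟩ := exists_of_mem_unipGE hD hkp hg
    rw [map_mul, psi_xG] at hfix
    have h1 : xG hD k (-σ t + t) = psi D σ v * v⁻¹ := by
      rw [← xG_add, ← xG_inv, inv_mul_eq_iff_eq_mul, ← mul_assoc, hfix, mul_inv_cancel_right]
    have h2 : -σ t + t = 0 := eq_zero_of_xG_mem hD hkp (by
      rw [h1]
      exact Subgroup.mul_mem _ (psi_unipGE hD σ _ hv) (Subgroup.inv_mem _ hv))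
    have h3 : σ t = t := (sub_eq_zero.1 ((sub_eq_neg_add t (σ t)).trans h2)).symm
    rw [h3] at hfix
    exact Subgroup.mul_mem _ (xG_mem_subG hD k (mem_fix.2 h3)) (ih (by omega) hv (mul_left_cancel hfix) (by omega))

theorem mem_subG_of_pos (hD : InList D) (σ : F ≃+* F) {g : GL D.Idx F}
    (hg : g ∈ D.posUnipotent F) (hfix : psi D σ g = g) : g ∈ subG hD (fix σ) := by
  rw [← unipGE_eq_posUnipotent hD F le_rfl] at hg
  exact mem_subG_of_unipGE hD σ le_rfl hg hfix

theorem simpleDiag (hD : InList D) (F : Type u) [Field F] : TorusRange.SimpleDiag D F :=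
  fun i hi c hc => Cfsg.Agent.S1033.result D hD i hi c hc

theorem exists_torusHom (hD : InList D) {g : GL D.Idx F} (hg : g ∈ D.diagonalSubgroup F) :
    ∃ c : Fin D.rank → Fˣ, torusHom D F c = g := by
  have G : Good D := RootComb.good_of_mem hD
  rw [TorusRange.diagonalSubgroup_eq_range (simpleDiag hD F) (fun i hi => G.simple_lt hi)
    (fun g hg => Cfsg.Agent.S1034.result D hD g hg)] at hg
  exact hg

theorem psi_torusHom (σ : F ≃+* F) (c : Fin D.rank → Fˣ) :
    psi D σ (torusHom D F c) = torusHom D F (fun i => Units.mapEquiv σ.toMulEquiv (c i)) := by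
  apply Units.ext
  rw [coe_psi, coe_torusHom, coe_torusHom, Matrix.diagonal_map (map_zero σ)]
  congr 1
  funext x
  rcases x with i | s
  · exact map_one σ
  · show σ ((mon c (col D s) : Fˣ) : F) = _
    simp only [Sum.elim_inr, mon_def]
    have : ∀ (z : Fˣ), σ (z : F) = ((Units.mapEquiv σ.toMulEquiv z : Fˣ) : F) := fun z => rfl
    rw [this, map_prod]
    congr 1
    refine Finset.prod_congr rfl fun i _ => ?_
    rw [map_zpow]

/-- Fixed elements of the torus, when the torus homomorphism is injective. -/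
theorem mem_subG_of_diag (hD : InList D) (σ : F ≃+* F) (hinj : Function.Injective (torusHom D F))
    {g : GL D.Idx F} (hg : g ∈ D.diagonalSubgroup F) (hfix : psi D σ g = g) : g ∈ subG hD (fix σ) := by
  obtain ⟨c, rfl⟩ := exists_torusHom hD hg
  rw [psi_torusHom] at hfix
  have h1 := hinj hfix
  have h2 : ∀ i, σ (c i : F) = c i := fun i => congrArg Units.val (congrFun h1 i)
  have h3 := TorusRange.coe_torusHom_eq_wordMat (simpleDiag hD F) c
    (fun i => if h : i < D.rank then (c ⟨i, h⟩ : F) else 1) (by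
      intro i
      simp)
  rw [(eq_wordG_iff hD _ _).2 h3]
  have h4 : ∀ l : List ℕ, (∀ i ∈ l, i < D.rank) → wordG hD (l.flatMap fun i => D.hWord (D.simple i)
      (if h : i < D.rank then (c ⟨i, h⟩ : F) else 1)) ∈ subG hD (fix σ) := by
    intro l
    induction l with
    | nil =>
      intro _
      exact Subgroup.one_mem _
    | cons i l ih =>
      intro hl
      rw [List.flatMap_cons, wordG_append]
      refine Subgroup.mul_mem _ ?_ (ih fun j hj => hl j (List.mem_cons_of_mem _ hj))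
      have hi : i < D.rank := hl i List.mem_cons_self
      rw [dif_pos hi]
      exact hG_mem_subG hD _ (mem_fix.2 (h2 ⟨i, hi⟩))
  exact h4 _ fun i hi => List.mem_range.1 hi

/-- `N' = ⟨n_{p_i}(1)⟩`. -/
def simpleN (hD : InList D) (F : Type u) [Field F] : Subgroup (GL D.Idx F) :=
  Subgroup.closure {g : GL D.Idx F | ∃ i < D.rank, g = nG hD (D.simple i) 1}

theorem simpleN_le (hD : InList D) (F : Type u) [Field F] : simpleN hD F ≤ D.monomialSubgroup F := by
  rw [NPerm.monomial_eq hD F]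
  exact le_sup_left

theorem psi_simpleN (hD : InList D) (σ : F ≃+* F) {n : GL D.Idx F} (hn : n ∈ simpleN hD F) : psi D σ n = n := by
  have : simpleN hD F ≤ MonoidHom.eqLocus (psi D σ).toMonoidHom (MonoidHom.id _) := by
    refine (Subgroup.closure_le _).2 ?_
    rintro g ⟨i, -, rfl⟩
    show psi D σ (nG hD _ 1) = nG hD _ 1
    rw [psi_nG, map_one]
  exact this hn

theorem simpleN_le_subG (hD : InList D) (K : Subfield F) : simpleN hD F ≤ subG hD K := by
  refine (Subgroup.closure_le _).2 ?_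
  rintro g ⟨i, -, rfl⟩
  exact nG_mem_subG hD _ K.one_mem

theorem exists_monomial_factor (hD : InList D) {n : GL D.Idx F} (hn : n ∈ D.monomialSubgroup F) :
    ∃ h ∈ D.diagonalSubgroup F, ∃ n' ∈ simpleN hD F, n = h * n' := by
  have hnorm : simpleN hD F ≤ Subgroup.normalizer (D.diagonalSubgroup F : Set (GL D.Idx F)) :=
    (simpleN_le hD F).trans (MonomialNormal.monomial_le_normalizer hD (SharpSign.sharp (F := F) hD))
  have h1 : n ∈ D.diagonalSubgroup F ⊔ simpleN hD F := by
    rw [sup_comm]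
    have := NPerm.monomial_eq hD F
    rw [this] at hn
    exact hn
  have h2 : ((D.diagonalSubgroup F ⊔ simpleN hD F : Subgroup (GL D.Idx F)) : Set (GL D.Idx F)) =
      (D.diagonalSubgroup F : Set (GL D.Idx F)) * (simpleN hD F : Set (GL D.Idx F)) :=
    Subgroup.coe_mul_of_right_le_normalizer_left _ _ hnorm
  have h3 : n ∈ ((D.diagonalSubgroup F ⊔ simpleN hD F : Subgroup (GL D.Idx F)) : Set (GL D.Idx F)) := h1
  rw [h2] at h3
  obtain ⟨h, hh, n', hn', e⟩ := h3
  exact ⟨h, hh, n', hn', e.symm⟩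

theorem Um_diag_mul (hD : InList D) {h n : GL D.Idx F} (hh : h ∈ D.diagonalSubgroup F)
    (hn : n ∈ D.monomialSubgroup F) : Um F D (h * n) = Um F D n := by
  have G : Good D := RootComb.good_of_mem hD
  obtain ⟨w, hw, hact⟩ := exists_acts hD hn
  have hact' : Acts (h * n) ([] ++ w) := Acts.mul G (acts_of_mem_diagonal hD G hh) hact hw
  rw [List.nil_append] at hact'
  unfold Um
  congr 1
  ext x
  constructor
  · rintro ⟨r, t, hr, hle, e⟩
    refine ⟨r, t, hr, ?_, e⟩
    rw [hact r hr.1, ← hact' r hr.1]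
    exact hle
  · rintro ⟨r, t, hr, hle, e⟩
    refine ⟨r, t, hr, ?_, e⟩
    rw [hact' r hr.1, ← hact r hr.1]
    exact hle

theorem psi_Um (hD : InList D) (σ : F ≃+* F) (n : GL D.Idx F) {u : GL D.Idx F} (hu : u ∈ Um F D n) :
    psi D σ u ∈ Um F D n := by
  have : Um F D n ≤ (Um F D n).comap (psi D σ).toMonoidHom := by
    refine (Subgroup.closure_le _).2 ?_
    rintro x ⟨r, t, hr, hle, e⟩
    show psi D σ x ∈ Um F D n
    rw [(eq_xG_iff hD x r t).2 e, psi_xG]
    exact Subgroup.subset_closure ⟨r, σ t, hr, hle, rfl⟩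
  exact this hu

theorem eq_of_pos_mul_diag (hD : InList D) {u u' h h' : GL D.Idx F} (hu : u ∈ D.posUnipotent F)
    (hu' : u' ∈ D.posUnipotent F) (hh : h ∈ D.diagonalSubgroup F) (hh' : h' ∈ D.diagonalSubgroup F)
    (e : u * h = u' * h') : u = u' ∧ h = h' := by
  have h1 : u'⁻¹ * u = h' * h⁻¹ := by
    rw [inv_mul_eq_iff_eq_mul, ← mul_assoc, ← e, mul_inv_cancel_right]
  have h2 : u'⁻¹ * u ∈ D.posUnipotent F ⊓ D.diagonalSubgroup F :=
    ⟨Subgroup.mul_mem _ (Subgroup.inv_mem _ hu') hu, h1 ▸ Subgroup.mul_mem _ hh' (Subgroup.inv_mem _ hh)⟩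
  rw [(Cfsg.Agent.S1036.result (F := F) D hD).2, Subgroup.mem_bot] at h2
  have h3 : u = u' := (inv_mul_eq_one.1 h2).symm
  rw [h3] at e
  exact ⟨h3, mul_left_cancel e⟩

/-- **Fixed points of a field automorphism.** -/
theorem mem_subG_of_fixed (hD : InList D) (σ : F ≃+* F) (hinj : Function.Injective (torusHom D F))
    {g : GL D.Idx F} (hg : g ∈ D.group F) (hfix : psi D σ g = g) : g ∈ subG hD (fix σ) := by
  obtain ⟨b, hb, n, hn, u, hu, e⟩ := (Cfsg.Agent.S1100.result (F := F) D hD).1 g hg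
  obtain ⟨h, hh, n', hn', rfl⟩ := exists_monomial_factor hD hn
  have hn'N := simpleN_le hD F hn'
  have hu : u ∈ Um F D (h * n') := hu
  rw [Um_diag_mul hD hh hn'N] at hu
  have hb' : b * h ∈ D.borelSubgroup F :=
    Subgroup.mul_mem _ hb ((le_sup_right : D.diagonalSubgroup F ≤ D.borelSubgroup F) hh)
  have e1 : g = (b * h) * n' * u := by rw [e]; group
  have e2 : (b * h) * n' * u = psi D σ (b * h) * n' * psi D σ u := by
    rw [← e1, ← hfix]
    conv_lhs => rw [e1]
    rw [map_mul, map_mul (psi D σ) (b * h) n', psi_simpleN hD σ hn']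
  obtain ⟨-, h2⟩ := (Cfsg.Agent.S1100.result (F := F) D hD).2 (b * h) (psi D σ (b * h)) n' n' u (psi D σ u) hb'
    (psi_borel hD σ hb') hn'N hn'N hu (psi_Um hD σ n' hu) e2
  obtain ⟨h3, h4⟩ := h2 rfl
  have hu1 : u ∈ subG hD (fix σ) := mem_subG_of_pos hD σ (Um_le _ hu) h4.symm
  obtain ⟨v, hv, d, hd, e3⟩ := Cfsg.Agent.S1100.exists_mul_of_mem_borel hD hb'
  rw [e3, map_mul] at h3
  obtain ⟨h5, h6⟩ := eq_of_pos_mul_diag hD hv (psi_pos hD σ hv) hd (psi_diag hD σ hd) h3
  rw [e1, e3]
  exact Subgroup.mul_mem _ (Subgroup.mul_mem _ (Subgroup.mul_mem _ (mem_subG_of_pos hD σ hv h5.symm)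
    (mem_subG_of_diag hD σ hinj hd h6.symm)) (simpleN_le_subG hD _ hn')) hu1

end Cfsg.Agent.H91.FieldFix
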